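import Cfsg.Agent.HNSub.C168.FactsData
import Cfsg.Agent.HNSub.C168.JustData
import Cfsg.Agent.HNSub.C168.TableData
import Cfsg.Agent.CosetCert.CoxExtra
import Cfsg.Agent.CosetCert.Pack

/-! Generated: the certificate. -/

set_option maxRecDepth 100000

namespace Cfsg.Agent.HNSub.C168

open Cfsg.Agent.CosetCert

noncomputable def data : Data where
  K := 4
  n := 168
  M := 168
  Nf := 340
  nR := 9
  iv := fun x => if x = 0 then 1 else if x = 1 then 0 else if x = 2 then 3 else if x = 3 then 2 else x
  F := get48 factStore
  J := getVar justStore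
  E := get48 edgeStore
  L := get48 repStore
  P := get48 treeStore
  W := [
    [1, 1, 1],
    [1, 2, 2, 1, 2, 2, 1, 2, 2, 1, 2, 2],
    [2, 2, 2],
    [1, 2, 1, 2, 1, 2, 1, 2],
    [],
    [0, 1],
    [1, 0],
    [2, 3],
    [3, 2]]
  PW := fun k => Nat.land (Nat.shiftRight 0x64000000000000008300000000000000220000000000000041000000000000000000000018862188620000000000000c63018c431886310c620000000000000842 (Nat.mul 64 k)) 0xffffffffffffffff
  powers := [
    ([1, 1, 1], 1),
    ([1, 2, 2, 1, 2, 2, 1, 2, 2, 1, 2, 2], 1),
    ([2, 2, 2], 1),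
    ([1, 2, 1, 2, 1, 2, 1, 2], 1),
    ([], 1),
    ([0, 1], 1),
    ([1, 0], 1),
    ([2, 3], 1),
    ([3, 2], 1)]

/-- The relators. -/
def relWords : List (List (Fin 2 × Bool)) := [
    [(0, false), (0, false), (0, false)],
    [(0, false), (1, true), (1, true), (0, false), (1, true), (1, true), (0, false), (1, true), (1, true), (0, false), (1, true), (1, true)],
    [(1, true), (1, true), (1, true)],
    [(0, false), (1, true), (0, false), (1, true), (0, false), (1, true), (0, false), (1, true)]]

/-- The generators of the subgroup. -/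
def subWords : List (FreeGroup (Fin 2)) := []

/-- The numbering of the generators. -/
def enc (b : Fin 2) : Nat := 2 * b.val

/-- The letter of a number. -/
def dec : Nat → Fin 2 × Bool
  | 0 => (0, true)
  | 1 => (0, false)
  | 2 => (1, true)
  | 3 => (1, false)
  | _ => (0, true)

end Cfsg.Agent.HNSub.C168
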